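import Cfsg.Agent.Spor.S85.D0

set_option autoImplicit false
set_option maxRecDepth 100000000
set_option Elab.async false

namespace Cfsg.Agent.Spor.S85

theorem ok0 : Net.okb 7 n0 = true := by decide +kernel

theorem ok1 : Net.okb 7 n1 = true := by decide +kernel

theorem ok2 : Net.okb 7 n2 = true := by decide +kernel

theorem ok3 : Net.okb 7 n3 = true := by decide +kernel

theorem ok4 : Net.okb 7 n4 = true := by decide +kernel

theorem ok5 : Net.okb 7 n5 = true := by decide +kernel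

theorem rel0 : T.rel 7 [1, 1] 0 7 = true := by decide +kernel

theorem rel1 : T.rel 7 [2, 2] 0 7 = true := by decide +kernel

theorem rel2 : T.rel 7 [3, 3] 0 7 = true := by decide +kernel

theorem rel3 : T.rel 7 [4, 4] 0 7 = true := by decide +kernel

theorem rel4 : T.rel 7 [7, 5, 4, 2, 1, 2, 4, 5, 4, 2, 3, 1, 2, 4, 6] 0 7 = true := by decide +kernel

theorem rel5 : T.rel 7 [1, 4, 1, 4] 0 7 = true := by decide +kernel

theorem rel6 : T.rel 7 [2, 4, 2, 4, 2, 4] 0 7 = true := by decide +kernel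

theorem rel7 : T.rel 7 [1, 2, 1, 2, 1, 2, 1, 2, 4, 2, 1, 2, 1, 2, 1, 2, 1, 2, 4, 2] 0 7 = true := by decide +kernel

theorem rel8 : T.rel 7 [3, 4, 3, 4] 0 7 = true := by decide +kernel

theorem rel9 : T.rel 7 [3, 2, 1, 2, 1, 3, 2, 1, 2, 3, 2, 1, 2, 1, 2] 0 7 = true := by decide +kernel

theorem rel10 : T.rel 7 [3, 2, 3, 2, 3, 2] 0 7 = true := by decide +kernel

theorem rel11 : T.rel 7 [3, 2, 1, 2, 4, 2, 1, 3, 2, 4, 1, 2, 3, 4, 1, 2, 1, 2, 4, 2, 1] 0 7 = true := by decide +kernel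

theorem rel12 : T.rel 7 [3, 5, 3, 5] 0 7 = true := by decide +kernel

theorem rel13 : T.rel 7 [2, 5, 2, 5] 0 7 = true := by decide +kernel

theorem rel14 : T.rel 7 [1, 5, 1, 6] 0 7 = true := by decide +kernel

theorem rel15 : T.rel 7 [4, 5, 4, 5, 4, 5] 0 7 = true := by decide +kernel

theorem rel16 : T.rel 7 [5, 5, 5] 0 7 = true := by decide +kernel

theorem hcov : T.treeCov (ones 85) L 1 = true := by decide +kernel

theorem hg : lall (fun z => band (memL L z) (band (sub (ones 85) (T.let z).cl) (T.closed (ones 85) z))) gs = true := by decide +kernel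

theorem rot1_1 : T.rot 1 [1] (sel (ones 85) ip1 1) = true := by decide +kernel

theorem rot1_1r : band (Rule.ok (2 * 4) EX RL ⟨1 :: [1], [], 12, false⟩) (lall (memL L) [1]) = true := by decide +kernel

theorem rot1_2 : T.rot 1 [4, 1, 4] (sel (ones 85) ip1 2) = true := by decide +kernel

theorem rot1_2r : band (Rule.ok (2 * 4) EX RL ⟨1 :: [4, 1, 4], [], 0, true⟩) (lall (memL L) [4, 1, 4]) = true := by decide +kernel

theorem rot1_3 : T.rot 1 [5, 1, 6] (sel (ones 85) ip1 3) = true := by decide +kernel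

theorem rot1_3r : band (Rule.ok (2 * 4) EX RL ⟨1 :: [5, 1, 6], [], 9, true⟩) (lall (memL L) [5, 1, 6]) = true := by decide +kernel

theorem rot1_4 : T.rot 1 [6, 1, 5] (sel (ones 85) ip1 4) = true := by decide +kernel

theorem rot1_4r : band (Rule.ok (2 * 4) EX RL ⟨1 :: [6, 1, 5], [9], 9, false⟩) (lall (memL L) [6, 1, 5]) = true := by decide +kernel

theorem rot1_5 : T.rot 1 [3, 2, 1, 2, 3, 2, 1, 2, 1, 2, 3, 2, 1, 2] (sel (ones 85) ip1 5) = true := by decide +kernel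

theorem rot1_5r : band (Rule.ok (2 * 4) EX RL ⟨1 :: [3, 2, 1, 2, 3, 2, 1, 2, 1, 2, 3, 2, 1, 2], [4, 2, 0, 2], 4, true⟩) (lall (memL L) [3, 2, 1, 2, 3, 2, 1, 2, 1, 2, 3, 2, 1, 2]) = true := by decide +kernel

theorem rot1_6 : T.rot 1 [2, 3, 2, 1, 2, 1, 2, 3, 2, 1, 2, 1, 3, 2] (sel (ones 85) ip1 6) = true := by decide +kernel

theorem rot1_6r : band (Rule.ok (2 * 4) EX RL ⟨1 :: [2, 3, 2, 1, 2, 1, 2, 3, 2, 1, 2, 1, 3, 2], [4, 2, 0, 2, 0, 4, 2], 4, true⟩) (lall (memL L) [2, 3, 2, 1, 2, 1, 2, 3, 2, 1, 2, 1, 3, 2]) = true := by decide +kernel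

theorem rot1_7 : T.rot 1 [2, 3, 1, 2, 1, 2, 3, 2, 1, 2, 1, 2, 3, 2] (sel (ones 85) ip1 7) = true := by decide +kernel

theorem rot1_7r : band (Rule.ok (2 * 4) EX RL ⟨1 :: [2, 3, 1, 2, 1, 2, 3, 2, 1, 2, 1, 2, 3, 2], [2, 0, 2, 0, 2, 4, 2], 4, false⟩) (lall (memL L) [2, 3, 1, 2, 1, 2, 3, 2, 1, 2, 1, 2, 3, 2]) = true := by decide +kernel

theorem rot1_8 : T.rot 1 [2, 1, 2, 3, 2, 1, 2, 1, 2, 3, 2, 1, 2, 3] (sel (ones 85) ip1 8) = true := by decide +kernel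

theorem rot1_8r : band (Rule.ok (2 * 4) EX RL ⟨1 :: [2, 1, 2, 3, 2, 1, 2, 1, 2, 3, 2, 1, 2, 3], [4, 2, 0, 2, 0], 4, false⟩) (lall (memL L) [2, 1, 2, 3, 2, 1, 2, 1, 2, 3, 2, 1, 2, 3]) = true := by decide +kernel

theorem rot1_9 : T.rot 1 [2, 1, 2, 1, 2, 1, 2, 4, 2, 1, 2, 1, 2, 1, 2, 1, 2, 4, 2] (sel (ones 85) ip1 9) = true := by decide +kernel

theorem rot1_9r : band (Rule.ok (2 * 4) EX RL ⟨1 :: [2, 1, 2, 1, 2, 1, 2, 4, 2, 1, 2, 1, 2, 1, 2, 1, 2, 4, 2], [], 2, true⟩) (lall (memL L) [2, 1, 2, 1, 2, 1, 2, 4, 2, 1, 2, 1, 2, 1, 2, 1, 2, 4, 2]) = true := by decide +kernel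

theorem rot1_10 : T.rot 1 [2, 4, 2, 1, 2, 1, 2, 1, 2, 1, 2, 4, 2, 1, 2, 1, 2, 1, 2] (sel (ones 85) ip1 10) = true := by decide +kernel

theorem rot1_10r : band (Rule.ok (2 * 4) EX RL ⟨1 :: [2, 4, 2, 1, 2, 1, 2, 1, 2, 1, 2, 4, 2, 1, 2, 1, 2, 1, 2], [0], 2, false⟩) (lall (memL L) [2, 4, 2, 1, 2, 1, 2, 1, 2, 1, 2, 4, 2, 1, 2, 1, 2, 1, 2]) = true := by decide +kernel

theorem rot1_11 : T.rot 1 [2, 4, 2, 1, 3, 2, 4, 1, 2, 3, 4, 1, 2, 1, 2, 4, 2, 1, 3, 2] (sel (ones 85) ip1 11) = true := by decide +kernel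

theorem rot1_11r : band (Rule.ok (2 * 4) EX RL ⟨1 :: [2, 4, 2, 1, 3, 2, 4, 1, 2, 3, 4, 1, 2, 1, 2, 4, 2, 1, 3, 2], [4, 2], 6, true⟩) (lall (memL L) [2, 4, 2, 1, 3, 2, 4, 1, 2, 3, 4, 1, 2, 1, 2, 4, 2, 1, 3, 2]) = true := by decide +kernel

theorem rot1_12 : T.rot 1 [2, 3, 4, 1, 2, 1, 2, 4, 2, 1, 3, 2, 1, 2, 4, 2, 1, 3, 2, 4] (sel (ones 85) ip1 12) = true := by decide +kernel

theorem rot1_12r : band (Rule.ok (2 * 4) EX RL ⟨1 :: [2, 3, 4, 1, 2, 1, 2, 4, 2, 1, 3, 2, 1, 2, 4, 2, 1, 3, 2, 4], [4, 2, 0, 2, 6, 2, 0, 4, 2, 6], 6, true⟩) (lall (memL L) [2, 3, 4, 1, 2, 1, 2, 4, 2, 1, 3, 2, 1, 2, 4, 2, 1, 3, 2, 4]) = true := by decide +kernel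

theorem rot1_13 : T.rot 1 [4, 2, 3, 1, 2, 4, 2, 1, 2, 3, 1, 2, 4, 2, 1, 2, 1, 4, 3, 2] (sel (ones 85) ip1 13) = true := by decide +kernel

theorem rot1_13r : band (Rule.ok (2 * 4) EX RL ⟨1 :: [4, 2, 3, 1, 2, 4, 2, 1, 2, 3, 1, 2, 4, 2, 1, 2, 1, 4, 3, 2], [0, 2, 6, 2, 0, 2, 0, 6, 4, 2], 6, false⟩) (lall (memL L) [4, 2, 3, 1, 2, 4, 2, 1, 2, 3, 1, 2, 4, 2, 1, 2, 1, 4, 3, 2]) = true := by decide +kernel

theorem rot1_14 : T.rot 1 [2, 3, 1, 2, 4, 2, 1, 2, 1, 4, 3, 2, 1, 4, 2, 3, 1, 2, 4, 2] (sel (ones 85) ip1 14) = true := by decide +kernel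

theorem rot1_14r : band (Rule.ok (2 * 4) EX RL ⟨1 :: [2, 3, 1, 2, 4, 2, 1, 2, 1, 4, 3, 2, 1, 4, 2, 3, 1, 2, 4, 2], [4, 2, 0], 6, false⟩) (lall (memL L) [2, 3, 1, 2, 4, 2, 1, 2, 1, 4, 3, 2, 1, 4, 2, 3, 1, 2, 4, 2]) = true := by decide +kernel

theorem cov1 : T.cover 1 [(sel (ones 85) ip1 1), (sel (ones 85) ip1 2), (sel (ones 85) ip1 3), (sel (ones 85) ip1 4), (sel (ones 85) ip1 5), (sel (ones 85) ip1 6), (sel (ones 85) ip1 7), (sel (ones 85) ip1 8), (sel (ones 85) ip1 9), (sel (ones 85) ip1 10), (sel (ones 85) ip1 11), (sel (ones 85) ip1 12), (sel (ones 85) ip1 13), (sel (ones 85) ip1 14), 1] = true := by decide +kernel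

theorem tl1 : T.treeLt 7 1 = true := by decide +kernel

theorem rot2_1 : T.rot 2 [2] (sel (ones 85) ip2 1) = true := by decide +kernel

theorem rot2_1r : band (Rule.ok (2 * 4) EX RL ⟨2 :: [2], [], 12, false⟩) (lall (memL L) [2]) = true := by decide +kernel

theorem rot2_2 : T.rot 2 [5, 2, 5] (sel (ones 85) ip2 2) = true := by decide +kernel

theorem rot2_2r : band (Rule.ok (2 * 4) EX RL ⟨2 :: [5, 2, 5], [], 8, true⟩) (lall (memL L) [5, 2, 5]) = true := by decide +kernel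

theorem rot2_3 : T.rot 2 [6, 2, 6] (sel (ones 85) ip2 3) = true := by decide +kernel

theorem rot2_3r : band (Rule.ok (2 * 4) EX RL ⟨2 :: [6, 2, 6], [2], 8, false⟩) (lall (memL L) [6, 2, 6]) = true := by decide +kernel

theorem rot2_4 : T.rot 2 [4, 2, 4, 2, 4] (sel (ones 85) ip2 4) = true := by decide +kernel

theorem rot2_4r : band (Rule.ok (2 * 4) EX RL ⟨2 :: [4, 2, 4, 2, 4], [], 1, true⟩) (lall (memL L) [4, 2, 4, 2, 4]) = true := by decide +kernel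

theorem rot2_5 : T.rot 2 [3, 2, 3, 2, 3] (sel (ones 85) ip2 5) = true := by decide +kernel

theorem rot2_5r : band (Rule.ok (2 * 4) EX RL ⟨2 :: [3, 2, 3, 2, 3], [], 5, false⟩) (lall (memL L) [3, 2, 3, 2, 3]) = true := by decide +kernel

theorem rot2_6 : T.rot 2 [1, 2, 1, 2, 3, 2, 1, 2, 1, 3, 2, 1, 2, 3] (sel (ones 85) ip2 6) = true := by decide +kernel

theorem rot2_6r : band (Rule.ok (2 * 4) EX RL ⟨2 :: [1, 2, 1, 2, 3, 2, 1, 2, 1, 3, 2, 1, 2, 3], [2, 0, 2, 0, 2], 4, true⟩) (lall (memL L) [1, 2, 1, 2, 3, 2, 1, 2, 1, 3, 2, 1, 2, 3]) = true := by decide +kernel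

theorem rot2_7 : T.rot 2 [1, 2, 3, 2, 1, 2, 1, 3, 2, 1, 2, 3, 2, 1] (sel (ones 85) ip2 7) = true := by decide +kernel

theorem rot2_7r : band (Rule.ok (2 * 4) EX RL ⟨2 :: [1, 2, 3, 2, 1, 2, 1, 3, 2, 1, 2, 3, 2, 1], [2, 0, 2], 4, true⟩) (lall (memL L) [1, 2, 3, 2, 1, 2, 1, 3, 2, 1, 2, 3, 2, 1]) = true := by decide +kernel

theorem rot2_8 : T.rot 2 [1, 2, 3, 2, 1, 2, 3, 1, 2, 1, 2, 3, 2, 1] (sel (ones 85) ip2 8) = true := by decide +kernel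

theorem rot2_8r : band (Rule.ok (2 * 4) EX RL ⟨2 :: [1, 2, 3, 2, 1, 2, 3, 1, 2, 1, 2, 3, 2, 1], [2, 0], 4, false⟩) (lall (memL L) [1, 2, 3, 2, 1, 2, 3, 1, 2, 1, 2, 3, 2, 1]) = true := by decide +kernel

theorem rot2_9 : T.rot 2 [1, 2, 1, 2, 4, 2, 1, 2, 1, 2, 1, 2, 1, 2, 4, 2, 1, 2, 1] (sel (ones 85) ip2 9) = true := by decide +kernel

theorem rot2_9r : band (Rule.ok (2 * 4) EX RL ⟨2 :: [1, 2, 1, 2, 4, 2, 1, 2, 1, 2, 1, 2, 1, 2, 4, 2, 1, 2, 1], [0, 2, 0], 2, true⟩) (lall (memL L) [1, 2, 1, 2, 4, 2, 1, 2, 1, 2, 1, 2, 1, 2, 4, 2, 1, 2, 1]) = true := by decide +kernel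

theorem rot2_10 : T.rot 2 [1, 2, 4, 2, 1, 3, 2, 4, 1, 2, 3, 4, 1, 2, 1, 2, 4, 2, 1, 3] (sel (ones 85) ip2 10) = true := by decide +kernel

theorem rot2_10r : band (Rule.ok (2 * 4) EX RL ⟨2 :: [1, 2, 4, 2, 1, 3, 2, 4, 1, 2, 3, 4, 1, 2, 1, 2, 4, 2, 1, 3], [4], 6, true⟩) (lall (memL L) [1, 2, 4, 2, 1, 3, 2, 4, 1, 2, 3, 4, 1, 2, 1, 2, 4, 2, 1, 3]) = true := by decide +kernel

theorem rot2_11 : T.rot 2 [3, 4, 1, 2, 1, 2, 4, 2, 1, 3, 2, 1, 2, 4, 2, 1, 3, 2, 4, 1] (sel (ones 85) ip2 11) = true := by decide +kernel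

theorem rot2_11r : band (Rule.ok (2 * 4) EX RL ⟨2 :: [3, 4, 1, 2, 1, 2, 4, 2, 1, 3, 2, 1, 2, 4, 2, 1, 3, 2, 4, 1], [0, 2, 6, 2, 0, 2, 0, 6, 4, 2], 6, true⟩) (lall (memL L) [3, 4, 1, 2, 1, 2, 4, 2, 1, 3, 2, 1, 2, 4, 2, 1, 3, 2, 4, 1]) = true := by decide +kernel

theorem rot2_12 : T.rot 2 [1, 4, 2, 3, 1, 2, 4, 2, 1, 2, 3, 1, 2, 4, 2, 1, 2, 1, 4, 3] (sel (ones 85) ip2 12) = true := by decide +kernel

theorem rot2_12r : band (Rule.ok (2 * 4) EX RL ⟨2 :: [1, 4, 2, 3, 1, 2, 4, 2, 1, 2, 3, 1, 2, 4, 2, 1, 2, 1, 4, 3], [0, 2, 6, 2, 0, 2, 0, 6, 4], 6, false⟩) (lall (memL L) [1, 4, 2, 3, 1, 2, 4, 2, 1, 2, 3, 1, 2, 4, 2, 1, 2, 1, 4, 3]) = true := by decide +kernel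

theorem rot2_13 : T.rot 2 [3, 1, 2, 4, 2, 1, 2, 3, 1, 2, 4, 2, 1, 2, 1, 4, 3, 2, 1, 4] (sel (ones 85) ip2 13) = true := by decide +kernel

theorem rot2_13r : band (Rule.ok (2 * 4) EX RL ⟨2 :: [3, 1, 2, 4, 2, 1, 2, 3, 1, 2, 4, 2, 1, 2, 1, 4, 3, 2, 1, 4], [4, 2, 0, 2, 6, 2, 0, 4, 2], 6, false⟩) (lall (memL L) [3, 1, 2, 4, 2, 1, 2, 3, 1, 2, 4, 2, 1, 2, 1, 4, 3, 2, 1, 4]) = true := by decide +kernel

theorem rot2_14 : T.rot 2 [3, 1, 2, 4, 2, 1, 2, 1, 4, 3, 2, 1, 4, 2, 3, 1, 2, 4, 2, 1] (sel (ones 85) ip2 14) = true := by decide +kernel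

theorem rot2_14r : band (Rule.ok (2 * 4) EX RL ⟨2 :: [3, 1, 2, 4, 2, 1, 2, 1, 4, 3, 2, 1, 4, 2, 3, 1, 2, 4, 2, 1], [4, 2], 6, false⟩) (lall (memL L) [3, 1, 2, 4, 2, 1, 2, 1, 4, 3, 2, 1, 4, 2, 3, 1, 2, 4, 2, 1]) = true := by decide +kernel

theorem cov2 : T.cover 2 [(sel (ones 85) ip2 1), (sel (ones 85) ip2 2), (sel (ones 85) ip2 3), (sel (ones 85) ip2 4), (sel (ones 85) ip2 5), (sel (ones 85) ip2 6), (sel (ones 85) ip2 7), (sel (ones 85) ip2 8), (sel (ones 85) ip2 9), (sel (ones 85) ip2 10), (sel (ones 85) ip2 11), (sel (ones 85) ip2 12), (sel (ones 85) ip2 13), (sel (ones 85) ip2 14), 1] = true := by decide +kernel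

theorem tl2 : T.treeLt 7 2 = true := by decide +kernel

theorem rot3_1 : T.rot 3 [3] (sel (ones 85) ip3 1) = true := by decide +kernel

theorem rot3_1r : band (Rule.ok (2 * 4) EX RL ⟨3 :: [3], [], 12, false⟩) (lall (memL L) [3]) = true := by decide +kernel

theorem rot3_2 : T.rot 3 [4, 3, 4] (sel (ones 85) ip3 2) = true := by decide +kernel

theorem rot3_2r : band (Rule.ok (2 * 4) EX RL ⟨3 :: [4, 3, 4], [], 3, true⟩) (lall (memL L) [4, 3, 4]) = true := by decide +kernel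

theorem rot3_3 : T.rot 3 [5, 3, 5] (sel (ones 85) ip3 3) = true := by decide +kernel

theorem rot3_3r : band (Rule.ok (2 * 4) EX RL ⟨3 :: [5, 3, 5], [], 7, true⟩) (lall (memL L) [5, 3, 5]) = true := by decide +kernel

theorem rot3_4 : T.rot 3 [6, 3, 6] (sel (ones 85) ip3 4) = true := by decide +kernel

theorem rot3_4r : band (Rule.ok (2 * 4) EX RL ⟨3 :: [6, 3, 6], [4], 7, false⟩) (lall (memL L) [6, 3, 6]) = true := by decide +kernel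

theorem rot3_5 : T.rot 3 [2, 3, 2, 3, 2] (sel (ones 85) ip3 5) = true := by decide +kernel

theorem rot3_5r : band (Rule.ok (2 * 4) EX RL ⟨3 :: [2, 3, 2, 3, 2], [], 5, true⟩) (lall (memL L) [2, 3, 2, 3, 2]) = true := by decide +kernel

theorem rot3_6 : T.rot 3 [2, 1, 2, 1, 3, 2, 1, 2, 3, 2, 1, 2, 1, 2] (sel (ones 85) ip3 6) = true := by decide +kernel

theorem rot3_6r : band (Rule.ok (2 * 4) EX RL ⟨3 :: [2, 1, 2, 1, 3, 2, 1, 2, 3, 2, 1, 2, 1, 2], [], 4, true⟩) (lall (memL L) [2, 1, 2, 1, 3, 2, 1, 2, 3, 2, 1, 2, 1, 2]) = true := by decide +kernel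

theorem rot3_7 : T.rot 3 [2, 1, 2, 3, 2, 1, 2, 1, 2, 3, 2, 1, 2, 1] (sel (ones 85) ip3 7) = true := by decide +kernel

theorem rot3_7r : band (Rule.ok (2 * 4) EX RL ⟨3 :: [2, 1, 2, 3, 2, 1, 2, 1, 2, 3, 2, 1, 2, 1], [4, 2, 0, 2, 0], 4, true⟩) (lall (memL L) [2, 1, 2, 3, 2, 1, 2, 1, 2, 3, 2, 1, 2, 1]) = true := by decide +kernel

theorem rot3_8 : T.rot 3 [1, 2, 1, 2, 3, 2, 1, 2, 1, 2, 3, 2, 1, 2] (sel (ones 85) ip3 8) = true := by decide +kernel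

theorem rot3_8r : band (Rule.ok (2 * 4) EX RL ⟨3 :: [1, 2, 1, 2, 3, 2, 1, 2, 1, 2, 3, 2, 1, 2], [4, 2, 0, 2, 0, 4], 4, false⟩) (lall (memL L) [1, 2, 1, 2, 3, 2, 1, 2, 1, 2, 3, 2, 1, 2]) = true := by decide +kernel

theorem rot3_9 : T.rot 3 [2, 4, 1, 2, 3, 4, 1, 2, 1, 2, 4, 2, 1, 3, 2, 1, 2, 4, 2, 1] (sel (ones 85) ip3 9) = true := by decide +kernel

theorem rot3_9r : band (Rule.ok (2 * 4) EX RL ⟨3 :: [2, 4, 1, 2, 3, 4, 1, 2, 1, 2, 4, 2, 1, 3, 2, 1, 2, 4, 2, 1], [4, 2, 0, 2, 6, 2, 0], 6, true⟩) (lall (memL L) [2, 4, 1, 2, 3, 4, 1, 2, 1, 2, 4, 2, 1, 3, 2, 1, 2, 4, 2, 1]) = true := by decide +kernel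

theorem rot3_10 : T.rot 3 [1, 2, 4, 2, 1, 2, 3, 1, 2, 4, 2, 1, 2, 1, 4, 3, 2, 1, 4, 2] (sel (ones 85) ip3 10) = true := by decide +kernel

theorem rot3_10r : band (Rule.ok (2 * 4) EX RL ⟨3 :: [1, 2, 4, 2, 1, 2, 3, 1, 2, 4, 2, 1, 2, 1, 4, 3, 2, 1, 4, 2], [4, 2, 0, 2, 6, 2, 0, 4], 6, false⟩) (lall (memL L) [1, 2, 4, 2, 1, 2, 3, 1, 2, 4, 2, 1, 2, 1, 4, 3, 2, 1, 4, 2]) = true := by decide +kernel

theorem cov3 : T.cover 3 [(sel (ones 85) ip3 1), (sel (ones 85) ip3 2), (sel (ones 85) ip3 3), (sel (ones 85) ip3 4), (sel (ones 85) ip3 5), (sel (ones 85) ip3 6), (sel (ones 85) ip3 7), (sel (ones 85) ip3 8), (sel (ones 85) ip3 9), (sel (ones 85) ip3 10), 1] = true := by decide +kernel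

theorem tl3 : T.treeLt 7 3 = true := by decide +kernel

theorem rot4_1 : T.rot 4 [4] (sel (ones 85) ip4 1) = true := by decide +kernel

theorem rot4_1r : band (Rule.ok (2 * 4) EX RL ⟨4 :: [4], [], 12, false⟩) (lall (memL L) [4]) = true := by decide +kernel

theorem rot4_2 : T.rot 4 [1, 4, 1] (sel (ones 85) ip4 2) = true := by decide +kernel

theorem rot4_2r : band (Rule.ok (2 * 4) EX RL ⟨4 :: [1, 4, 1], [], 0, false⟩) (lall (memL L) [1, 4, 1]) = true := by decide +kernel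

theorem rot4_3 : T.rot 4 [3, 4, 3] (sel (ones 85) ip4 3) = true := by decide +kernel

theorem rot4_3r : band (Rule.ok (2 * 4) EX RL ⟨4 :: [3, 4, 3], [], 3, false⟩) (lall (memL L) [3, 4, 3]) = true := by decide +kernel

theorem rot4_4 : T.rot 4 [2, 4, 2, 4, 2] (sel (ones 85) ip4 4) = true := by decide +kernel

theorem rot4_4r : band (Rule.ok (2 * 4) EX RL ⟨4 :: [2, 4, 2, 4, 2], [], 1, false⟩) (lall (memL L) [2, 4, 2, 4, 2]) = true := by decide +kernel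

theorem rot4_5 : T.rot 4 [5, 4, 5, 4, 5] (sel (ones 85) ip4 5) = true := by decide +kernel

theorem rot4_5r : band (Rule.ok (2 * 4) EX RL ⟨4 :: [5, 4, 5, 4, 5], [], 10, true⟩) (lall (memL L) [5, 4, 5, 4, 5]) = true := by decide +kernel

theorem rot4_6 : T.rot 4 [6, 4, 6, 4, 6] (sel (ones 85) ip4 6) = true := by decide +kernel

theorem rot4_6r : band (Rule.ok (2 * 4) EX RL ⟨4 :: [6, 4, 6, 4, 6], [6], 10, false⟩) (lall (memL L) [6, 4, 6, 4, 6]) = true := by decide +kernel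

theorem rot4_7 : T.rot 4 [6, 4, 2, 1, 2, 4, 6, 8, 5, 4, 2, 1, 3, 2] (sel (ones 85) ip4 7) = true := by decide +kernel

theorem rot4_7r : band (Rule.ok (2 * 4) EX RL ⟨4 :: [6, 4, 2, 1, 2, 4, 6, 8, 5, 4, 2, 1, 3, 2], [], 12, false⟩) (lall (memL L) [6, 4, 2, 1, 2, 4, 6, 8, 5, 4, 2, 1, 3, 2]) = true := by decide +kernel

theorem rot4_8 : T.rot 4 [2, 3, 1, 2, 4, 6, 7, 5, 4, 2, 1, 2, 4, 5] (sel (ones 85) ip4 8) = true := by decide +kernel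

theorem rot4_8r : band (Rule.ok (2 * 4) EX RL ⟨4 :: [2, 3, 1, 2, 4, 6, 7, 5, 4, 2, 1, 2, 4, 5], [], 12, false⟩) (lall (memL L) [2, 3, 1, 2, 4, 6, 7, 5, 4, 2, 1, 2, 4, 5]) = true := by decide +kernel

theorem rot4_9 : T.rot 4 [2, 1, 2, 1, 2, 1, 2, 1, 2, 4, 2, 1, 2, 1, 2, 1, 2, 1, 2] (sel (ones 85) ip4 9) = true := by decide +kernel

theorem rot4_9r : band (Rule.ok (2 * 4) EX RL ⟨4 :: [2, 1, 2, 1, 2, 1, 2, 1, 2, 4, 2, 1, 2, 1, 2, 1, 2, 1, 2], [2], 2, false⟩) (lall (memL L) [2, 1, 2, 1, 2, 1, 2, 1, 2, 4, 2, 1, 2, 1, 2, 1, 2, 1, 2]) = true := by decide +kernel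

theorem rot4_10 : T.rot 4 [1, 2, 1, 2, 4, 2, 1, 3, 2, 1, 2, 4, 2, 1, 3, 2, 4, 1, 2, 3] (sel (ones 85) ip4 10) = true := by decide +kernel

theorem rot4_10r : band (Rule.ok (2 * 4) EX RL ⟨4 :: [1, 2, 1, 2, 4, 2, 1, 3, 2, 1, 2, 4, 2, 1, 3, 2, 4, 1, 2, 3], [0, 2, 6, 2, 0, 2, 0, 6], 6, true⟩) (lall (memL L) [1, 2, 1, 2, 4, 2, 1, 3, 2, 1, 2, 4, 2, 1, 3, 2, 4, 1, 2, 3]) = true := by decide +kernel

theorem rot4_11 : T.rot 4 [3, 2, 1, 4, 2, 3, 1, 2, 4, 2, 1, 2, 3, 1, 2, 4, 2, 1, 2, 1] (sel (ones 85) ip4 11) = true := by decide +kernel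

theorem rot4_11r : band (Rule.ok (2 * 4) EX RL ⟨4 :: [3, 2, 1, 4, 2, 3, 1, 2, 4, 2, 1, 2, 3, 1, 2, 4, 2, 1, 2, 1], [0, 2, 6, 2, 0, 2, 0], 6, false⟩) (lall (memL L) [3, 2, 1, 4, 2, 3, 1, 2, 4, 2, 1, 2, 3, 1, 2, 4, 2, 1, 2, 1]) = true := by decide +kernel

theorem cov4 : T.cover 4 [(sel (ones 85) ip4 1), (sel (ones 85) ip4 2), (sel (ones 85) ip4 3), (sel (ones 85) ip4 4), (sel (ones 85) ip4 5), (sel (ones 85) ip4 6), (sel (ones 85) ip4 7), (sel (ones 85) ip4 8), (sel (ones 85) ip4 9), (sel (ones 85) ip4 10), (sel (ones 85) ip4 11), 1] = true := by decide +kernel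

theorem tl4 : T.treeLt 7 4 = true := by decide +kernel

theorem rot5_1 : T.rot 5 [6] (sel (ones 85) ip5 1) = true := by decide +kernel

theorem rot5_1r : band (Rule.ok (2 * 4) EX RL ⟨5 :: [6], [], 12, false⟩) (lall (memL L) [6]) = true := by decide +kernel

theorem rot5_2 : T.rot 5 [5, 5] (sel (ones 85) ip5 2) = true := by decide +kernel

theorem rot5_2r : band (Rule.ok (2 * 4) EX RL ⟨5 :: [5, 5], [], 11, true⟩) (lall (memL L) [5, 5]) = true := by decide +kernel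

theorem rot5_3 : T.rot 5 [3, 5, 3] (sel (ones 85) ip5 3) = true := by decide +kernel

theorem rot5_3r : band (Rule.ok (2 * 4) EX RL ⟨5 :: [3, 5, 3], [8], 7, true⟩) (lall (memL L) [3, 5, 3]) = true := by decide +kernel

theorem rot5_4 : T.rot 5 [2, 5, 2] (sel (ones 85) ip5 4) = true := by decide +kernel

theorem rot5_4r : band (Rule.ok (2 * 4) EX RL ⟨5 :: [2, 5, 2], [8], 8, true⟩) (lall (memL L) [2, 5, 2]) = true := by decide +kernel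

theorem rot5_5 : T.rot 5 [1, 6, 1] (sel (ones 85) ip5 5) = true := by decide +kernel

theorem rot5_5r : band (Rule.ok (2 * 4) EX RL ⟨5 :: [1, 6, 1], [], 9, false⟩) (lall (memL L) [1, 6, 1]) = true := by decide +kernel

theorem rot5_6 : T.rot 5 [4, 5, 4, 5, 4] (sel (ones 85) ip5 6) = true := by decide +kernel

theorem rot5_6r : band (Rule.ok (2 * 4) EX RL ⟨5 :: [4, 5, 4, 5, 4], [8], 10, true⟩) (lall (memL L) [4, 5, 4, 5, 4]) = true := by decide +kernel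

theorem cov5 : T.cover 5 [(sel (ones 85) ip5 1), (sel (ones 85) ip5 2), (sel (ones 85) ip5 3), (sel (ones 85) ip5 4), (sel (ones 85) ip5 5), (sel (ones 85) ip5 6)] = true := by decide +kernel

theorem tl5 : T.treeLt 7 5 = true := by decide +kernel

theorem rot6_1 : T.rot 6 [5] (sel (ones 85) ip6 1) = true := by decide +kernel

theorem rot6_1r : band (Rule.ok (2 * 4) EX RL ⟨6 :: [5], [], 12, false⟩) (lall (memL L) [5]) = true := by decide +kernel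

theorem rot6_2 : T.rot 6 [6, 6] (sel (ones 85) ip6 2) = true := by decide +kernel

theorem rot6_2r : band (Rule.ok (2 * 4) EX RL ⟨6 :: [6, 6], [], 11, false⟩) (lall (memL L) [6, 6]) = true := by decide +kernel

theorem rot6_3 : T.rot 6 [3, 6, 3] (sel (ones 85) ip6 3) = true := by decide +kernel

theorem rot6_3r : band (Rule.ok (2 * 4) EX RL ⟨6 :: [3, 6, 3], [], 7, false⟩) (lall (memL L) [3, 6, 3]) = true := by decide +kernel

theorem rot6_4 : T.rot 6 [2, 6, 2] (sel (ones 85) ip6 4) = true := by decide +kernel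

theorem rot6_4r : band (Rule.ok (2 * 4) EX RL ⟨6 :: [2, 6, 2], [], 8, false⟩) (lall (memL L) [2, 6, 2]) = true := by decide +kernel

theorem rot6_5 : T.rot 6 [1, 5, 1] (sel (ones 85) ip6 5) = true := by decide +kernel

theorem rot6_5r : band (Rule.ok (2 * 4) EX RL ⟨6 :: [1, 5, 1], [9], 9, true⟩) (lall (memL L) [1, 5, 1]) = true := by decide +kernel

theorem rot6_6 : T.rot 6 [4, 6, 4, 6, 4] (sel (ones 85) ip6 6) = true := by decide +kernel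

theorem rot6_6r : band (Rule.ok (2 * 4) EX RL ⟨6 :: [4, 6, 4, 6, 4], [], 10, false⟩) (lall (memL L) [4, 6, 4, 6, 4]) = true := by decide +kernel

theorem cov6 : T.cover 6 [(sel (ones 85) ip6 1), (sel (ones 85) ip6 2), (sel (ones 85) ip6 3), (sel (ones 85) ip6 4), (sel (ones 85) ip6 5), (sel (ones 85) ip6 6)] = true := by decide +kernel

theorem tl6 : T.treeLt 7 6 = true := by decide +kernel

theorem cov7 : T.cover 7 [1] = true := by decide +kernel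

theorem tl7 : Nat.beq (T.let 7).tt 0 = true := by decide +kernel

theorem rot8_1 : T.rot 8 [7] (sel (ones 85) ip8 1) = true := by decide +kernel

theorem rot8_1r : band (Rule.ok (2 * 4) EX RL ⟨8 :: [7], [], 12, false⟩) (lall (memL L) [7]) = true := by decide +kernel

theorem cov8 : T.cover 8 [(sel (ones 85) ip8 1)] = true := by decide +kernel

theorem tl8 : Nat.beq (T.let 8).tt 0 = true := by decide +kernel

end Cfsg.Agent.Spor.S85
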