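import Cfsg.Agent.Spor.Chk

set_option autoImplicit false
set_option maxRecDepth 100000000
set_option Elab.async false
noncomputable section

namespace Cfsg.Agent.Spor.S85

def m0_0 : Nat := nat_lit 0x180040000000001a
def m0_1 : Nat := nat_lit 0x182000000000e442c60d
def m0_2 : Nat := nat_lit 0x1800000000010000217100001f18
def m0_3 : Nat := nat_lit 0x200000000400040009004d0094
def m0_4 : Nat := nat_lit 0x108000403030b000b
def m0_5 : Nat := nat_lit 0x1000000001101001033001000022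
def m0_6 : Nat := nat_lit 0x1000000000001541555014151514
def m0_7 : Nat := nat_lit 0x1000000000001001000000000001
def m0_8 : Nat := nat_lit 0x10800040303000800
def m0_9 : Nat := nat_lit 0x20000000040004000900080091
def m0_10 : Nat := nat_lit 0x100002141000000b5
def m0_11 : Nat := nat_lit 0x182000000000e442c60d
def m0_12 : Nat := nat_lit 0x180040000000001a
def n0 : Net := Net.cons 64 m0_0 (Net.cons 32 m0_1 (Net.cons 16 m0_2 (Net.cons 8 m0_3 (Net.cons 4 m0_4 (Net.cons 2 m0_5 (Net.cons 1 m0_6 (Net.cons 2 m0_7 (Net.cons 4 m0_8 (Net.cons 8 m0_9 (Net.cons 16 m0_10 (Net.cons 32 m0_11 (Net.cons 64 m0_12 (Net.nil)))))))))))))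

def m1_0 : Nat := nat_lit 0x4f24a00000000001
def m1_1 : Nat := nat_lit 0xee20000000008f205001
def m1_2 : Nat := nat_lit 0x47200000014100005efa0000b981
def m1_3 : Nat := nat_lit 0x40004000100840028009000540086
def m1_4 : Nat := nat_lit 0x8020202000502020b0300030108000e
def m1_5 : Nat := nat_lit 0x1010101001301013030101200011102
def m1_6 : Nat := nat_lit 0x41014401000501140151411114041110
def m1_7 : Nat := nat_lit 0x1010101000001010000101000011120
def m1_8 : Nat := nat_lit 0x8020002000502020103000201010000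
def m1_9 : Nat := nat_lit 0x40004000100040028009000840016
def m1_10 : Nat := nat_lit 0x4300000001410000429000002911
def m1_11 : Nat := nat_lit 0xee20000000000f284200
def m1_12 : Nat := nat_lit 0x4f24a00000000001
def n1 : Net := Net.cons 64 m1_0 (Net.cons 32 m1_1 (Net.cons 16 m1_2 (Net.cons 8 m1_3 (Net.cons 4 m1_4 (Net.cons 2 m1_5 (Net.cons 1 m1_6 (Net.cons 2 m1_7 (Net.cons 4 m1_8 (Net.cons 8 m1_9 (Net.cons 16 m1_10 (Net.cons 32 m1_11 (Net.cons 64 m1_12 (Net.nil)))))))))))))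

def m2_0 : Nat := nat_lit 0x812000000012e1
def m2_1 : Nat := nat_lit 0x90200000000c80114b9
def m2_2 : Nat := nat_lit 0x81000080030000c0f600009f1c
def m2_3 : Nat := nat_lit 0xb0004008200450000002a0000
def m2_4 : Nat := nat_lit 0x208040102030403010209020605
def m2_5 : Nat := nat_lit 0x130000223000302312101
def m2_6 : Nat := nat_lit 0x400450044445411540010441
def m2_7 : Nat := nat_lit 0x100002110011010010021
def m2_8 : Nat := nat_lit 0x40102000100000301000600
def m2_9 : Nat := nat_lit 0xa0004008200a2000100800068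
def m2_10 : Nat := nat_lit 0x810000800300001789000060b2
def m2_11 : Nat := nat_lit 0x90200000000c00314f9
def m2_12 : Nat := nat_lit 0x812000000012e1
def n2 : Net := Net.cons 64 m2_0 (Net.cons 32 m2_1 (Net.cons 16 m2_2 (Net.cons 8 m2_3 (Net.cons 4 m2_4 (Net.cons 2 m2_5 (Net.cons 1 m2_6 (Net.cons 2 m2_7 (Net.cons 4 m2_8 (Net.cons 8 m2_9 (Net.cons 16 m2_10 (Net.cons 32 m2_11 (Net.cons 64 m2_12 (Net.nil)))))))))))))

def m3_0 : Nat := nat_lit 0x202000000000095e
def m3_1 : Nat := nat_lit 0x5000000000008543c17e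
def m3_2 : Nat := nat_lit 0x20200000002a000096d200002bc5
def m3_3 : Nat := nat_lit 0x1000000088000400d200440046
def m3_4 : Nat := nat_lit 0x108040601050c00030c08
def m3_5 : Nat := nat_lit 0x1000000300122111212201202003
def m3_6 : Nat := nat_lit 0x1010001001011041411415051115
def m3_7 : Nat := nat_lit 0x1000000002001010110010000200
def m3_8 : Nat := nat_lit 0x1000c0609020109050308
def m3_9 : Nat := nat_lit 0x100000000300da000100c8001d
def m3_10 : Nat := nat_lit 0x20200000002a0000515a00007833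
def m3_11 : Nat := nat_lit 0x5000000000001e08a592
def m3_12 : Nat := nat_lit 0x202000000000095e
def n3 : Net := Net.cons 64 m3_0 (Net.cons 32 m3_1 (Net.cons 16 m3_2 (Net.cons 8 m3_3 (Net.cons 4 m3_4 (Net.cons 2 m3_5 (Net.cons 1 m3_6 (Net.cons 2 m3_7 (Net.cons 4 m3_8 (Net.cons 8 m3_9 (Net.cons 16 m3_10 (Net.cons 32 m3_11 (Net.cons 64 m3_12 (Net.nil)))))))))))))

def m4_0 : Nat := nat_lit 0xa458a00000000000
def m4_1 : Nat := nat_lit 0x408ea000000000040018de9
def m4_2 : Nat := nat_lit 0x800000004810000525a00006278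
def m4_3 : Nat := nat_lit 0x80000000900600025008600620028
def m4_4 : Nat := nat_lit 0x802000008000108090c05010d0501
def m4_5 : Nat := nat_lit 0x20100000010221030110113010310201
def m4_6 : Nat := nat_lit 0x404000040450145141051040150141
def m4_7 : Nat := nat_lit 0x2000000000000102000010000100
def m4_8 : Nat := nat_lit 0x80000000805020900000501000500
def m4_9 : Nat := nat_lit 0x8000000090060002d000300720018
def m4_10 : Nat := nat_lit 0xa800000004810000105b00002108
def m4_11 : Nat := nat_lit 0x408ea000000000010009df4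
def m4_12 : Nat := nat_lit 0xa458a00000000000
def n4 : Net := Net.cons 64 m4_0 (Net.cons 32 m4_1 (Net.cons 16 m4_2 (Net.cons 8 m4_3 (Net.cons 4 m4_4 (Net.cons 2 m4_5 (Net.cons 1 m4_6 (Net.cons 2 m4_7 (Net.cons 4 m4_8 (Net.cons 8 m4_9 (Net.cons 16 m4_10 (Net.cons 32 m4_11 (Net.cons 64 m4_12 (Net.nil)))))))))))))

def m5_0 : Nat := nat_lit 0x801c0056d0036e09
def m5_1 : Nat := nat_lit 0x110d20000000046a216a0
def m5_2 : Nat := nat_lit 0x101c0000006c00003422000059cb
def m5_3 : Nat := nat_lit 0x1000000040000e00810020001c0091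
def m5_4 : Nat := nat_lit 0x400060e000801000a0201060c
def m5_5 : Nat := nat_lit 0x10010002100003000200022111210203
def m5_6 : Nat := nat_lit 0x40000044000440001410440404155405
def m5_7 : Nat := nat_lit 0x10000010000220002010210100000000
def m5_8 : Nat := nat_lit 0x100040002000001010a0204090100
def m5_9 : Nat := nat_lit 0x100000005000060081008300280011
def m5_10 : Nat := nat_lit 0x101c0000c060000018a200001242
def m5_11 : Nat := nat_lit 0x110c20000000046a33320
def m5_12 : Nat := nat_lit 0x801c0056d0076601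
def n5 : Net := Net.cons 64 m5_0 (Net.cons 32 m5_1 (Net.cons 16 m5_2 (Net.cons 8 m5_3 (Net.cons 4 m5_4 (Net.cons 2 m5_5 (Net.cons 1 m5_6 (Net.cons 2 m5_7 (Net.cons 4 m5_8 (Net.cons 8 m5_9 (Net.cons 16 m5_10 (Net.cons 32 m5_11 (Net.cons 64 m5_12 (Net.nil)))))))))))))

def cl1 : Nat := nat_lit 0x1fffffffffffffffffffff
def tt1 : Nat := nat_lit 0x200404020010100900
def tm1_0 : Nat := nat_lit 0x183fbc7fc717c13c3a5b18
def tm1_1 : Nat := nat_lit 0x8fb9edbf3a5f64ec3841e
def tm1_2 : Nat := nat_lit 0x8ff87f87894312a295240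
def tm1_3 : Nat := nat_lit 0x1700400000080000000000
def ip1_0 : Nat := nat_lit 0x8cf40d0e168512911b44
def ip1_1 : Nat := nat_lit 0x1bfc939b1aa9964ecb525c
def ip1_2 : Nat := nat_lit 0x4400d60e91c610008d602
def ip1_3 : Nat := nat_lit 0x163c02000040020200000
def ip1 : List Nat := [ip1_0, ip1_1, ip1_2, ip1_3]
def l1 : Let := ⟨0, false, cl1, tt1, [tm1_0, tm1_1, tm1_2, tm1_3]⟩

def cl2 : Nat := nat_lit 0x1fffffffffffffffffffff
def tt2 : Nat := nat_lit 0x26285a0484808810420a0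
def tm2_0 : Nat := nat_lit 0x36a9fa1484c08d55720a0
def tm2_1 : Nat := nat_lit 0x5851a502300e410908446
def tm2_2 : Nat := nat_lit 0x1083a059305c446431200
def tm2_3 : Nat := nat_lit 0x1810000000000000000000
def ip2_0 : Nat := nat_lit 0x2ffb5b0ca4888939532e4
def ip2_1 : Nat := nat_lit 0x58d3851a301e402808446
def ip2_2 : Nat := nat_lit 0x1810380010040444431200
def ip2_3 : Nat := nat_lit 0x1100a0490000010100000
def ip2 : List Nat := [ip2_0, ip2_1, ip2_2, ip2_3]
def l2 : Let := ⟨1, false, cl2, tt2, [tm2_0, tm2_1, tm2_2, tm2_3]⟩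

def cl3 : Nat := nat_lit 0x1fffffffffffffffffffff
def tt3 : Nat := nat_lit 0x100120285200
def tm3_0 : Nat := nat_lit 0x7fd1c4a8114c12c2a5218
def tm3_1 : Nat := nat_lit 0x7ffbeeff5eefecfc3841e
def tm3_2 : Nat := nat_lit 0x6e6adb54c0b0000000040
def tm3_3 : Nat := nat_lit 0x1800400002000000000000
def ip3_0 : Nat := nat_lit 0x5848960ef5b29a128d642
def ip3_1 : Nat := nat_lit 0x1b764acab5a7724c42845a
def ip3_2 : Nat := nat_lit 0x4af99b14c4a8c83810004
def ip3_3 : Nat := nat_lit 0x640402000000000000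
def ip3 : List Nat := [ip3_0, ip3_1, ip3_2, ip3_3]
def l3 : Let := ⟨2, false, cl3, tt3, [tm3_0, tm3_1, tm3_2, tm3_3]⟩

def cl4 : Nat := nat_lit 0x1fffffffffffffffffffff
def tt4 : Nat := nat_lit 0x1810420a10a5124c420018
def tm4_0 : Nat := nat_lit 0x18394adf1aa532cc4a40b8
def tm4_1 : Nat := nat_lit 0x26b89650308c0810000a0
def tm4_2 : Nat := nat_lit 0x2b0dd5cb0aa080085b40
def tm4_3 : Nat := nat_lit 0x104300004000000000000
def ip4_0 : Nat := nat_lit 0x181a7b4e17a532cd4a5318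
def ip4_1 : Nat := nat_lit 0xd201580028001085a40
def ip4_2 : Nat := nat_lit 0x3618cf14908a0010000e0
def ip4_3 : Nat := nat_lit 0x6310006004080000100
def ip4 : List Nat := [ip4_0, ip4_1, ip4_2, ip4_3]
def l4 : Let := ⟨3, false, cl4, tt4, [tm4_0, tm4_1, tm4_2, tm4_3]⟩

def cl5 : Nat := nat_lit 0x1fffffffffffffffffffff
def tt5 : Nat := nat_lit 0x5000840a1006000008402
def tm5_0 : Nat := nat_lit 0x10fd3031169dac1383f0d4
def tm5_1 : Nat := nat_lit 0x8100800c51d68bd1c009a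
def tm5_2 : Nat := nat_lit 0x8700068541f28bc1efe00
def tm5_3 : Nat := nat_lit 0x1702658628c00000000000
def ip5_0 : Nat := nat_lit 0x179f115f26d2ac2299da44
def ip5_1 : Nat := nat_lit 0x1f124948e1c4682d0a521a
def ip5_2 : Nat := nat_lit 0x86064a61c1f009d16ac88
def ip5 : List Nat := [ip5_0, ip5_1, ip5_2]
def l5 : Let := ⟨4, false, cl5, tt5, [tm5_0, tm5_1, tm5_2, tm5_3]⟩

def cl6 : Nat := nat_lit 0x1fffffffffffffffffffff
def tt6 : Nat := nat_lit 0x8d101102008402810044
def tm6_0 : Nat := nat_lit 0x15d048c4e14f65a00f8c62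
def tm6_1 : Nat := nat_lit 0x8081005024f85bfa00074
def tm6_2 : Nat := nat_lit 0x8c8008e404e15bfaf1980
def tm6_3 : Nat := nat_lit 0x1237e71004100000000000
def ip6_0 : Nat := nat_lit 0x1724ec5ea5527132299d02
def ip6_1 : Nat := nat_lit 0x1a25d41d0255902e2b1054
def ip6_2 : Nat := nat_lit 0x8db2382440f059d8609b0
def ip6 : List Nat := [ip6_0, ip6_1, ip6_2]
def l6 : Let := ⟨4, true, cl6, tt6, [tm6_0, tm6_1, tm6_2, tm6_3]⟩

def ip7 : List Nat := []
def l7 : Let := ⟨5, false, 0x1, 0x0, [0x0, 0x0, 0x0, 0x0]⟩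

def ip8 : List Nat := [0x1]
def l8 : Let := ⟨5, true, 0x1, 0x0, [0x1, 0x0, 0x0, 0x0]⟩

def NT : List Net := [n0, n1, n2, n3, n4, n5]
def LT : List Let := [⟨0, false, 0, 0, []⟩, l1, l2, l3, l4, l5, l6, l7, l8]
def T : Tab := ⟨NT, LT⟩
def EX : List (List Nat) := [[], [0], [2], [4], [6], [8], [9], [9, 6, 2, 0, 2, 6, 9, 6, 2, 4, 0, 2, 6, 8], [9, 6, 2, 0, 4, 2, 6, 8, 6, 2, 0, 2, 6, 8]]
def RL : List (List Nat) := [[6, 0, 6, 0], [6, 2, 6, 2, 6, 2], [2, 6, 2, 0, 2, 0, 2, 0, 2, 0, 2, 6, 2, 0, 2, 0, 2, 0, 2, 0], [6, 4, 6, 4], [2, 0, 2, 0, 2, 4, 2, 0, 2, 4, 0, 2, 0, 2, 4], [2, 4, 2, 4, 2, 4], [0, 2, 6, 2, 0, 2, 0, 6, 4, 2, 0, 6, 2, 4, 0, 2, 6, 2, 0, 2, 4], [8, 4, 8, 4], [8, 2, 8, 2], [9, 0, 8, 0], [8, 6, 8, 6, 8, 6], [8, 8, 8]]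
def XL : List (List Nat) := []
def BW : List (List Nat) := [[0], [2], [4], [6], [9, 6, 2, 0, 2, 6, 9, 6, 2, 4, 0, 2, 6, 8]]
def IV : Nat := 0x70805060403020100
def L : List Nat := [1, 2, 3, 4, 5, 6, 7, 8]
def gs : List Nat := [1, 2, 3, 4, 5]
def base : List Nat := [1, 2, 3, 4, 7]

end Cfsg.Agent.Spor.S85
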